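import Cfsg.Agent.Lib.Helper9.TCData.U43B0.S0
import Cfsg.Agent.Lib.Helper9.TCData.U43B0.S1
import Cfsg.Agent.Lib.Helper9.TCData.U43B0.S2
import Cfsg.Agent.Lib.Helper9.TCData.U43B0.S3
import Cfsg.Agent.Lib.Helper9.TCData.U43B0.S4
import Cfsg.Agent.Lib.Helper9.TCData.U43B0.S5
import Cfsg.Agent.Lib.Helper9.TCData.U43B0.S6
import Cfsg.Agent.Lib.Helper9.TCData.U43B0.S7
import Cfsg.Agent.Lib.Helper9.TCData.U43B0.S8
import Cfsg.Agent.Lib.Helper9.TCData.U43B0.S9
import Cfsg.Agent.Lib.Helper9.TCData.U43B0.S10

set_option autoImplicit false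
set_option maxRecDepth 1000000

namespace Cfsg.Agent.Helper9.TCData.U43B0
open Cfsg.Agent.Helper9.TC2


theorem hE0 : ∀ u < 280, chkE tab 0 u = true := by
  have h0 : ∀ u < 0, (fun u => chkE tab 0 u) u = true := range_zero
  have h1 : ∀ u < 280, (fun u => chkE tab 0 u) u = true := ext_range (a := 0) (len := 280) h0 e0_0
  exact h1

theorem hE1 : ∀ u < 280, chkE tab 1 u = true := by
  have h0 : ∀ u < 0, (fun u => chkE tab 1 u) u = true := range_zero
  have h1 : ∀ u < 280, (fun u => chkE tab 1 u) u = true := ext_range (a := 0) (len := 280) h0 e1_0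
  exact h1

theorem hE2 : ∀ u < 280, chkE tab 2 u = true := by
  have h0 : ∀ u < 0, (fun u => chkE tab 2 u) u = true := range_zero
  have h1 : ∀ u < 280, (fun u => chkE tab 2 u) u = true := ext_range (a := 0) (len := 280) h0 e2_0
  exact h1

theorem hE3 : ∀ u < 280, chkE tab 3 u = true := by
  have h0 : ∀ u < 0, (fun u => chkE tab 3 u) u = true := range_zero
  have h1 : ∀ u < 280, (fun u => chkE tab 3 u) u = true := ext_range (a := 0) (len := 280) h0 e3_0
  exact h1

theorem hE4 : ∀ u < 280, chkE tab 4 u = true := by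
  have h0 : ∀ u < 0, (fun u => chkE tab 4 u) u = true := range_zero
  have h1 : ∀ u < 280, (fun u => chkE tab 4 u) u = true := ext_range (a := 0) (len := 280) h0 e4_0
  exact h1

theorem hE5 : ∀ u < 280, chkE tab 5 u = true := by
  have h0 : ∀ u < 0, (fun u => chkE tab 5 u) u = true := range_zero
  have h1 : ∀ u < 280, (fun u => chkE tab 5 u) u = true := ext_range (a := 0) (len := 280) h0 e5_0
  exact h1

theorem hL : ∀ u < 280, chkL tab u = true := by
  have h0 : ∀ u < 0, (fun u => chkL tab u) u = true := range_zero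
  have h1 : ∀ u < 280, (fun u => chkL tab u) u = true := ext_range (a := 0) (len := 280) h0 l_0
  exact h1

theorem hF : ∀ u < 280, chkFin tab u = true := by
  have h0 : ∀ u < 0, (fun u => chkFin tab u) u = true := range_zero
  have h1 : ∀ u < 280, (fun u => chkFin tab u) u = true := ext_range (a := 0) (len := 280) h0 f_0
  exact h1

theorem hC : ∀ u < 280, chkCls tab u = true := by
  have h0 : ∀ u < 0, (fun u => chkCls tab u) u = true := range_zero
  have h1 : ∀ u < 280, (fun u => chkCls tab u) u = true := ext_range (a := 0) (len := 280) h0 c_0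
  exact h1

theorem hM1 : ∀ u < 280, chkM1 tab u = true := by
  have h0 : ∀ u < 0, (fun u => chkM1 tab u) u = true := range_zero
  have h1 : ∀ u < 280, (fun u => chkM1 tab u) u = true := ext_range (a := 0) (len := 280) h0 m1_0
  exact h1

theorem hM2 : ∀ u < 280, chkFix tab mwords u = true := by
  have h0 : ∀ u < 0, (fun u => chkFix tab mwords u) u = true := range_zero
  have h1 : ∀ u < 56, (fun u => chkFix tab mwords u) u = true := ext_range (a := 0) (len := 56) h0 m2_0
  have h2 : ∀ u < 112, (fun u => chkFix tab mwords u) u = true := ext_range (a := 56) (len := 56) h1 m2_1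
  have h3 : ∀ u < 168, (fun u => chkFix tab mwords u) u = true := ext_range (a := 112) (len := 56) h2 m2_2
  have h4 : ∀ u < 224, (fun u => chkFix tab mwords u) u = true := ext_range (a := 168) (len := 56) h3 m2_3
  have h5 : ∀ u < 280, (fun u => chkFix tab mwords u) u = true := ext_range (a := 224) (len := 56) h4 m2_4
  exact h5

theorem hO1 : ∀ u < 280, chkO1 tab orb u = true := by
  have h0 : ∀ u < 0, (fun u => chkO1 tab orb u) u = true := range_zero
  have h1 : ∀ u < 37, (fun u => chkO1 tab orb u) u = true := ext_range (a := 0) (len := 37) h0 o1_0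
  have h2 : ∀ u < 74, (fun u => chkO1 tab orb u) u = true := ext_range (a := 37) (len := 37) h1 o1_1
  have h3 : ∀ u < 111, (fun u => chkO1 tab orb u) u = true := ext_range (a := 74) (len := 37) h2 o1_2
  have h4 : ∀ u < 148, (fun u => chkO1 tab orb u) u = true := ext_range (a := 111) (len := 37) h3 o1_3
  have h5 : ∀ u < 185, (fun u => chkO1 tab orb u) u = true := ext_range (a := 148) (len := 37) h4 o1_4
  have h6 : ∀ u < 222, (fun u => chkO1 tab orb u) u = true := ext_range (a := 185) (len := 37) h5 o1_5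
  have h7 : ∀ u < 259, (fun u => chkO1 tab orb u) u = true := ext_range (a := 222) (len := 37) h6 o1_6
  have h8 : ∀ u < 280, (fun u => chkO1 tab orb u) u = true := ext_range (a := 259) (len := 21) h7 o1_7
  exact h8

theorem hO2 : ∀ u < 280, chkO2 tab orb u = true := by
  have h0 : ∀ u < 0, (fun u => chkO2 tab orb u) u = true := range_zero
  have h1 : ∀ u < 280, (fun u => chkO2 tab orb u) u = true := ext_range (a := 0) (len := 280) h0 o2_0
  exact h1

theorem hOL : ∀ u < 280, Nat.blt (orb.lab u) 3 = true := by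
  have h0 : ∀ u < 0, (fun u => Nat.blt (orb.lab u) 3) u = true := range_zero
  have h1 : ∀ u < 280, (fun u => Nat.blt (orb.lab u) 3) u = true := ext_range (a := 0) (len := 280) h0 ol_0
  exact h1

theorem hSlp : ∀ u < 280, chkSlp tab slp u = true := by
  have h0 : ∀ u < 0, (fun u => chkSlp tab slp u) u = true := range_zero
  have h1 : ∀ u < 18, (fun u => chkSlp tab slp u) u = true := ext_range (a := 0) (len := 18) h0 sl_0
  have h2 : ∀ u < 36, (fun u => chkSlp tab slp u) u = true := ext_range (a := 18) (len := 18) h1 sl_1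
  have h3 : ∀ u < 54, (fun u => chkSlp tab slp u) u = true := ext_range (a := 36) (len := 18) h2 sl_2
  have h4 : ∀ u < 72, (fun u => chkSlp tab slp u) u = true := ext_range (a := 54) (len := 18) h3 sl_3
  have h5 : ∀ u < 90, (fun u => chkSlp tab slp u) u = true := ext_range (a := 72) (len := 18) h4 sl_4
  have h6 : ∀ u < 108, (fun u => chkSlp tab slp u) u = true := ext_range (a := 90) (len := 18) h5 sl_5
  have h7 : ∀ u < 126, (fun u => chkSlp tab slp u) u = true := ext_range (a := 108) (len := 18) h6 sl_6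
  have h8 : ∀ u < 144, (fun u => chkSlp tab slp u) u = true := ext_range (a := 126) (len := 18) h7 sl_7
  have h9 : ∀ u < 162, (fun u => chkSlp tab slp u) u = true := ext_range (a := 144) (len := 18) h8 sl_8
  have h10 : ∀ u < 180, (fun u => chkSlp tab slp u) u = true := ext_range (a := 162) (len := 18) h9 sl_9
  have h11 : ∀ u < 198, (fun u => chkSlp tab slp u) u = true := ext_range (a := 180) (len := 18) h10 sl_10
  have h12 : ∀ u < 216, (fun u => chkSlp tab slp u) u = true := ext_range (a := 198) (len := 18) h11 sl_11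
  have h13 : ∀ u < 234, (fun u => chkSlp tab slp u) u = true := ext_range (a := 216) (len := 18) h12 sl_12
  have h14 : ∀ u < 252, (fun u => chkSlp tab slp u) u = true := ext_range (a := 234) (len := 18) h13 sl_13
  have h15 : ∀ u < 270, (fun u => chkSlp tab slp u) u = true := ext_range (a := 252) (len := 18) h14 sl_14
  have h16 : ∀ u < 280, (fun u => chkSlp tab slp u) u = true := ext_range (a := 270) (len := 10) h15 sl_15
  exact h16

theorem hT0 : ∀ u < 280, chkTree tab (lidx 0) (lpar 0) (lgi 0) 0 [0, 2, 3, 4, 5, 137, 138, 142, 143, 146, 147, 128, 139] u = true := by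
  have h0 : ∀ u < 0, (fun u => chkTree tab (lidx 0) (lpar 0) (lgi 0) 0 [0, 2, 3, 4, 5, 137, 138, 142, 143, 146, 147, 128, 139] u) u = true := range_zero
  have h1 : ∀ u < 280, (fun u => chkTree tab (lidx 0) (lpar 0) (lgi 0) 0 [0, 2, 3, 4, 5, 137, 138, 142, 143, 146, 147, 128, 139] u) u = true := ext_range (a := 0) (len := 280) h0 tr0x_0
  exact h1

theorem hT1 : ∀ u < 280, chkTree tab (lidx 1) (lpar 1) (lgi 1) 1 [137, 138, 142, 143, 128, 139] u = true := by
  have h0 : ∀ u < 0, (fun u => chkTree tab (lidx 1) (lpar 1) (lgi 1) 1 [137, 138, 142, 143, 128, 139] u) u = true := range_zero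
  have h1 : ∀ u < 280, (fun u => chkTree tab (lidx 1) (lpar 1) (lgi 1) 1 [137, 138, 142, 143, 128, 139] u) u = true := ext_range (a := 0) (len := 280) h0 tr1x_0
  exact h1

theorem hT2 : ∀ u < 280, chkTree tab (lidx 2) (lpar 2) (lgi 2) 2 [137, 138, 142, 143, 146, 147] u = true := by
  have h0 : ∀ u < 0, (fun u => chkTree tab (lidx 2) (lpar 2) (lgi 2) 2 [137, 138, 142, 143, 146, 147] u) u = true := range_zero
  have h1 : ∀ u < 280, (fun u => chkTree tab (lidx 2) (lpar 2) (lgi 2) 2 [137, 138, 142, 143, 146, 147] u) u = true := ext_range (a := 0) (len := 280) h0 tr2x_0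
  exact h1

theorem hT3 : ∀ u < 280, chkTree tab (lidx 3) (lpar 3) (lgi 3) 3 [137, 138] u = true := by
  have h0 : ∀ u < 0, (fun u => chkTree tab (lidx 3) (lpar 3) (lgi 3) 3 [137, 138] u) u = true := range_zero
  have h1 : ∀ u < 280, (fun u => chkTree tab (lidx 3) (lpar 3) (lgi 3) 3 [137, 138] u) u = true := ext_range (a := 0) (len := 280) h0 tr3x_0
  exact h1

theorem hX : ∀ u < 280, Nat.beq ((runT tab xw)^[7] u) u = true := by
  have h0 : ∀ u < 0, (fun u => Nat.beq ((runT tab xw)^[7] u) u) u = true := range_zero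
  have h1 : ∀ u < 280, (fun u => Nat.beq ((runT tab xw)^[7] u) u) u = true := ext_range (a := 0) (len := 280) h0 x_0
  exact h1

theorem hE : ∀ c < 6, ∀ u < 280, chkE tab c u = true := by
  intro c hc
  interval_cases c
  · exact hE0
  · exact hE1
  · exact hE2
  · exact hE3
  · exact hE4
  · exact hE5

end Cfsg.Agent.Helper9.TCData.U43B0
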