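import Cfsg.Agent.Lib.Helper9.TC2Cox
import Cfsg.Agent.Lib.Helper9.TC2Aux
import Cfsg.Agent.Lib.Helper9.TC2BSGS
import Cfsg.Agent.Lib.Helper9.TC2Pack
import Cfsg.Agent.Lib.Helper9.TCData.U43B0.P0

set_option autoImplicit false
set_option maxRecDepth 100000

namespace Cfsg.Agent.Helper9.TCData.U43B0
open Cfsg.Agent.Helper9.TC2
/-- The rotated relators. -/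
noncomputable def rotT : WT := (WT.node 39 (WT.node 19 (WT.node 9 (WT.node 4 (WT.node 2 (WT.node 1 (WT.leaf [0, 0]) (WT.leaf [0, 2, 5])) (WT.node 3 (WT.leaf [0, 3, 3, 1, 3, 3, 1, 2, 2, 1, 3, 3, 1, 2, 1, 2, 2, 1, 2, 1, 2, 1, 3, 1, 3, 0, 2, 2, 0, 3, 0, 3, 0, 3, 3, 0, 2]) (WT.leaf [0, 3, 0, 3, 0, 3, 3, 0, 2, 0, 3, 0, 3, 3, 0, 3, 3, 0, 2, 0, 3, 3, 0, 3, 3, 0, 3, 0, 3, 0, 3, 3, 0, 3, 3, 0, 2, 2]))) (WT.node 6 (WT.node 5 (WT.leaf [0, 3, 3, 0, 2, 2, 0, 3, 0, 3, 0, 3, 3, 0, 2, 0, 3, 0, 3, 3, 0, 3, 3, 0, 2, 0, 3, 3, 0, 3, 3, 0, 3, 0, 3, 0, 3, 3]) (WT.leaf [0, 2, 0, 3, 3, 0, 3, 0, 3, 3, 0, 2, 0, 3, 0, 3, 0, 3, 3, 0, 3, 0, 3, 0, 2, 0, 2, 0, 3, 0, 3, 3, 0, 3, 0, 2, 2])) (WT.node 7 (WT.leaf [0, 2, 0, 3, 3, 0, 3,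 0, 3, 0, 3, 0, 3, 0, 2, 2, 0, 2, 0, 3, 0, 2, 0, 2, 0, 3, 0, 2, 0, 3, 3, 0, 2, 0, 3, 0, 2]) (WT.node 8 (WT.leaf [0, 3, 0, 2, 2, 0, 2, 0, 3, 0, 2, 0, 2, 0, 3, 0, 2, 0, 3, 3, 0, 2, 0, 3, 0, 2, 0, 2, 0, 3, 3, 0, 3, 0, 3, 0, 3]) (WT.leaf [0, 3, 3, 0, 3, 3, 0, 2, 0, 3, 3, 0, 3, 3, 0, 3, 0, 2, 0, 3, 3, 0, 3, 0, 3, 0, 2, 2, 0, 3, 3, 0, 3, 3, 0, 3, 0, 3]))))) (WT.node 14 (WT.node 11 (WT.node 10 (WT.leaf [0, 3, 0, 3, 0, 3, 0, 2, 2, 0, 2, 0, 3, 0, 2, 0, 2, 0, 3, 0, 2, 0, 3, 3, 0, 2, 0, 3, 0, 2, 0, 2, 0, 3, 3, 0, 3]) (WT.leaf [0, 3, 3, 0, 3, 0, 3, 0, 3, 0, 3, 0, 2, 2, 0, 2, 0, 3, 0, 2, 0, 2, 0, 3, 0, 2, 0, 3, 3, 0, 2, 0, 3, 0, 2, 0, 2])) (WT.node 12 (WT.leaf [0, 3, 0, 2, 0, 3, 3, 0, 2, 0, 3, 0, 2, 0, 2, 0, 3, 3,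 0, 3, 0, 3, 0, 3, 0, 3, 0, 2, 2, 0, 2, 0, 3, 0, 2, 0, 2]) (WT.node 13 (WT.leaf [0, 2, 0, 3, 0, 2, 0, 2, 0, 3, 0, 2, 0, 3, 3, 0, 2, 0, 3, 0, 2, 0, 2, 0, 3, 3, 0, 3, 0, 3, 0, 3, 0, 3, 0, 2, 2]) (WT.leaf [0, 3, 0, 3, 0, 3, 3, 0, 3, 0, 3, 0, 2, 0, 3, 3, 0, 3, 0, 3, 3, 0, 2, 0, 2, 2, 0, 3, 0, 3, 3, 0, 3, 0, 2, 0, 2])))) (WT.node 16 (WT.node 15 (WT.leaf [0, 3, 0, 3, 3, 0, 2, 0, 3, 0, 3, 0, 3, 3, 0, 3, 0, 3, 0, 2, 0, 2, 0, 3, 0, 3, 3, 0, 3, 0, 2, 2, 0, 2, 0, 3, 3]) (WT.leaf [0, 3, 3, 0, 3, 0, 3, 3, 0, 2, 0, 2, 2, 0, 3, 0, 3, 3, 0, 3, 0, 2, 0, 2, 0, 3, 0, 3, 0, 3, 3, 0, 3, 0, 3, 0, 2])) (WT.node 17 (WT.leaf [0, 3, 0, 3, 3, 0, 3, 0, 2, 2, 0, 2, 0, 3, 3, 0, 3, 0, 3, 3, 0, 2, 0, 3, 0, 3, 0, 3, 3, 0, 3, 0, 3, 0,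 2, 0, 2]) (WT.node 18 (WT.leaf [0, 2, 0, 3, 3, 0, 3, 0, 3, 3, 0, 2, 0, 2, 2, 0, 3, 0, 3, 3, 0, 3, 0, 2, 0, 2, 0, 3, 0, 3, 0, 3, 3, 0, 3, 0, 3]) (WT.leaf [0, 3, 3, 0, 3, 0, 2, 0, 2, 0, 3, 0, 3, 0, 3, 3, 0, 3, 0, 3, 0, 2, 0, 3, 3, 0, 3, 0, 3, 3, 0, 2, 0, 2, 2, 0, 3])))))) (WT.node 29 (WT.node 24 (WT.node 21 (WT.node 20 (WT.leaf [0, 3, 3, 0, 2, 0, 3, 3, 1, 3, 3, 1, 2, 2, 1, 3, 3, 1, 2, 1, 2, 2, 1, 2, 1, 2, 1, 3, 1, 3, 0, 2, 2, 0, 3, 0, 3]) (WT.leaf [0, 3, 3, 0, 2, 0, 3, 0, 2, 0, 2, 0, 3, 3, 0, 3, 0, 3, 0, 3, 0, 3, 0, 2, 2, 0, 2, 0, 3, 0, 2, 0, 2, 0, 3, 0, 2])) (WT.node 22 (WT.leaf [0, 3, 0, 3, 3, 0, 3, 0, 3, 0, 2, 0, 2, 0, 3, 0, 3, 3, 0, 3, 0, 2, 2, 0, 2, 0, 3, 3, 0, 3, 0, 3, 3, 0, 2, 0, 3]) (WT.node 23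 (WT.leaf [0, 3, 0, 2, 0, 2, 0, 3, 0, 3, 3, 0, 3, 0, 2, 2, 0, 2, 0, 3, 3, 0, 3, 0, 3, 3, 0, 2, 0, 3, 0, 3, 0, 3, 3, 0, 3]) (WT.leaf [0, 3, 0, 2, 2, 0, 2, 0, 3, 3, 0, 3, 0, 3, 3, 0, 2, 0, 3, 0, 3, 0, 3, 3, 0, 3, 0, 3, 0, 2, 0, 2, 0, 3, 0, 3, 3])))) (WT.node 26 (WT.node 25 (WT.leaf [0, 3, 0, 3, 3, 0, 2, 0, 3, 3, 1, 3, 3, 1, 2, 2, 1, 3, 3, 1, 2, 1, 2, 2, 1, 2, 1, 2, 1, 3, 1, 3, 0, 2, 2, 0, 3]) (WT.leaf [1, 2, 1, 2, 1, 3, 1, 3, 0, 2, 2, 0, 3, 0, 3, 0, 3, 3, 0, 2, 0, 3, 3, 1, 3, 3, 1, 2, 2, 1, 3, 3, 1, 2, 1, 2, 2])) (WT.node 27 (WT.leaf [1, 3, 1, 3, 0, 2, 2, 0, 3, 0, 3, 0, 3, 3, 0, 2, 0, 3, 3, 1, 3, 3, 1, 2, 2, 1, 3, 3, 1, 2, 1, 2, 2, 1, 2, 1, 2]) (WT.node 28 (WT.leaf [1, 3, 3, 1, 2, 1, 2, 2, 1, 2, 1, 2, 1,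 3, 1, 3, 0, 2, 2, 0, 3, 0, 3, 0, 3, 3, 0, 2, 0, 3, 3, 1, 3, 3, 1, 2, 2]) (WT.leaf [1, 3, 3, 1, 2, 2, 1, 3, 3, 1, 2, 1, 2, 2, 1, 2, 1, 2, 1, 3, 1, 3, 0, 2, 2, 0, 3, 0, 3, 0, 3, 3, 0, 2, 0, 3, 3]))))) (WT.node 34 (WT.node 31 (WT.node 30 (WT.leaf [1, 2, 1, 2, 2, 1, 2, 1, 2, 1, 3, 1, 3, 0, 2, 2, 0, 3, 0, 3, 0, 3, 3, 0, 2, 0, 3, 3, 1, 3, 3, 1, 2, 2, 1, 3, 3]) (WT.leaf [1, 2, 2, 1, 2, 1, 2, 1, 3, 1, 3, 0, 2, 2, 0, 3, 0, 3, 0, 3, 3, 0, 2, 0, 3, 3, 1, 3, 3, 1, 2, 2, 1, 3, 3, 1, 2])) (WT.node 32 (WT.leaf [1, 2, 2, 1, 3, 3, 1, 2, 1, 2, 2, 1, 2, 1, 2, 1, 3, 1, 3, 0, 2, 2, 0, 3, 0, 3, 0, 3, 3, 0, 2, 0, 3, 3, 1, 3, 3]) (WT.node 33 (WT.leaf [2, 5, 0]) (WT.leaf [2, 2, 2, 2, 2])))) (WT.node 36 (WT.node 35 (WT.leaf [2,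 0, 3, 3, 0, 3, 0, 3, 0, 2, 2, 0, 3, 3, 0, 3, 3, 0, 3, 0, 3, 0, 3, 3, 0, 3, 3, 0, 2, 0, 3, 3, 0, 3, 3, 0, 3, 0]) (WT.leaf [2, 1, 2, 1, 3, 1, 3, 0, 2, 2, 0, 3, 0, 3, 0, 3, 3, 0, 2, 0, 3, 3, 1, 3, 3, 1, 2, 2, 1, 3, 3, 1, 2, 1, 2, 2, 1])) (WT.node 37 (WT.leaf [2, 0, 3, 3, 1, 3, 3, 1, 2, 2, 1, 3, 3, 1, 2, 1, 2, 2, 1, 2, 1, 2, 1, 3, 1, 3, 0, 2, 2, 0, 3, 0, 3, 0, 3, 3, 0]) (WT.node 38 (WT.leaf [2, 0, 3, 0, 3, 0, 3, 3, 0, 2, 0, 3, 3, 1, 3, 3, 1, 2, 2, 1, 3, 3, 1, 2, 1, 2, 2, 1, 2, 1, 2, 1, 3, 1, 3, 0, 2]) (WT.leaf [2, 2, 1, 3, 3, 1, 2, 1, 2, 2, 1, 2, 1, 2, 1, 3, 1, 3, 0, 2, 2, 0, 3, 0, 3, 0, 3, 3, 0, 2, 0, 3, 3, 1, 3, 3, 1]))))))) (WT.node 58 (WT.node 48 (WT.node 43 (WT.node 41 (WT.node 40 (WT.leaf [2, 1, 3,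 1, 3, 0, 2, 2, 0, 3, 0, 3, 0, 3, 3, 0, 2, 0, 3, 3, 1, 3, 3, 1, 2, 2, 1, 3, 3, 1, 2, 1, 2, 2, 1, 2, 1]) (WT.leaf [2, 0, 2, 0, 3, 0, 3, 3, 0, 3, 0, 2, 2, 0, 2, 0, 3, 3, 0, 3, 0, 3, 3, 0, 2, 0, 3, 0, 3, 0, 3, 3, 0, 3, 0, 3, 0])) (WT.node 42 (WT.leaf [2, 1, 3, 3, 1, 2, 1, 2, 2, 1, 2, 1, 2, 1, 3, 1, 3, 0, 2, 2, 0, 3, 0, 3, 0, 3, 3, 0, 2, 0, 3, 3, 1, 3, 3, 1, 2]) (WT.leaf [2, 0, 2, 2, 0, 3, 0, 3, 3, 0, 3, 0, 2, 0, 2, 0, 3, 0, 3, 0, 3, 3, 0, 3, 0, 3, 0, 2, 0, 3, 3, 0, 3, 0, 3, 3, 0]))) (WT.node 45 (WT.node 44 (WT.leaf [2, 2, 1, 2, 1, 2, 1, 3, 1, 3, 0, 2, 2, 0, 3, 0, 3, 0, 3, 3, 0, 2, 0, 3, 3, 1, 3, 3, 1, 2, 2, 1, 3, 3, 1, 2, 1]) (WT.leaf [2, 1, 2, 2, 1, 2, 1, 2, 1, 3, 1, 3, 0, 2, 2, 0, 3, 0, 3, 0, 3, 3, 0,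 2, 0, 3, 3, 1, 3, 3, 1, 2, 2, 1, 3, 3, 1])) (WT.node 46 (WT.leaf [2, 0, 3, 3, 0, 3, 0, 3, 3, 0, 2, 0, 3, 0, 3, 0, 3, 3, 0, 3, 0, 3, 0, 2, 0, 2, 0, 3, 0, 3, 3, 0, 3, 0, 2, 2, 0]) (WT.node 47 (WT.leaf [3, 3, 0, 2, 0, 2, 2, 0, 3, 0, 3, 3, 0, 3, 0, 2, 0, 2, 0, 3, 0, 3, 0, 3, 3, 0, 3, 0, 3, 0, 2, 0, 3, 3, 0, 3, 0]) (WT.leaf [3, 3, 0, 3, 3, 0, 3, 0, 3, 0, 3, 3, 0, 3, 3, 0, 2, 2, 0, 3, 0, 3, 0, 3, 3, 0, 2, 0, 3, 0, 3, 3, 0, 3, 3, 0, 2, 0]))))) (WT.node 53 (WT.node 50 (WT.node 49 (WT.leaf [3, 3, 0, 3, 3, 0, 3, 0, 3, 0, 3, 3, 0, 3, 3, 0, 2, 0, 3, 3, 0, 3, 3, 0, 3, 0, 2, 0, 3, 3, 0, 3, 0, 3, 0, 2, 2, 0]) (WT.leaf [3, 3, 0, 2, 2, 0, 3, 0, 3, 0, 3, 3, 0, 2, 0, 3, 0, 3, 3, 0, 3, 3, 0, 2, 0, 3, 3, 0, 3, 3, 0, 3, 0,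 3, 0, 3, 3, 0])) (WT.node 51 (WT.leaf [3, 0, 2, 0, 3, 3, 1, 3, 3, 1, 2, 2, 1, 3, 3, 1, 2, 1, 2, 2, 1, 2, 1, 2, 1, 3, 1, 3, 0, 2, 2, 0, 3, 0, 3, 0, 3]) (WT.node 52 (WT.leaf [3, 0, 3, 3, 0, 2, 0, 3, 3, 1, 3, 3, 1, 2, 2, 1, 3, 3, 1, 2, 1, 2, 2, 1, 2, 1, 2, 1, 3, 1, 3, 0, 2, 2, 0, 3, 0]) (WT.leaf [3, 3, 1, 2, 2, 1, 3, 3, 1, 2, 1, 2, 2, 1, 2, 1, 2, 1, 3, 1, 3, 0, 2, 2, 0, 3, 0, 3, 0, 3, 3, 0, 2, 0, 3, 3, 1])))) (WT.node 55 (WT.node 54 (WT.leaf [3, 0, 3, 0, 3, 3, 0, 2, 0, 3, 0, 3, 0, 3, 3, 0, 3, 0, 3, 0, 2, 0, 2, 0, 3, 0, 3, 3, 0, 3, 0, 2, 2, 0, 2, 0, 3]) (WT.leaf [3, 0, 3, 0, 3, 3, 0, 2, 0, 2, 2, 0, 3, 0, 3, 3, 0, 3, 0, 2, 0, 2, 0, 3, 0, 3, 0, 3, 3, 0, 3, 0, 3, 0, 2, 0, 3])) (WT.node 56 (WT.leaf [3, 0, 3,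 0, 3, 0, 2, 2, 0, 3, 3, 0, 3, 3, 0, 3, 0, 3, 0, 3, 3, 0, 3, 3, 0, 2, 0, 3, 3, 0, 3, 3, 0, 3, 0, 2, 0, 3]) (WT.node 57 (WT.leaf [3, 3, 0, 3, 0, 3, 0, 2, 0, 2, 0, 3, 0, 3, 3, 0, 3, 0, 2, 2, 0, 2, 0, 3, 3, 0, 3, 0, 3, 3, 0, 2, 0, 3, 0, 3, 0]) (WT.leaf [3, 0, 3, 0, 3, 0, 2, 0, 2, 0, 3, 0, 3, 3, 0, 3, 0, 2, 2, 0, 2, 0, 3, 3, 0, 3, 0, 3, 3, 0, 2, 0, 3, 0, 3, 0, 3])))))) (WT.node 68 (WT.node 63 (WT.node 60 (WT.node 59 (WT.leaf [3, 3, 0, 3, 0, 2, 2, 0, 2, 0, 3, 3, 0, 3, 0, 3, 3, 0, 2, 0, 3, 0, 3, 0, 3, 3, 0, 3, 0, 3, 0, 2, 0, 2, 0, 3, 0]) (WT.leaf [3, 3, 0, 3, 0, 3, 3, 0, 2, 0, 3, 0, 3, 0, 3, 3, 0, 3, 0, 3, 0, 2, 0, 2, 0, 3, 0, 3, 3, 0, 3, 0, 2, 2, 0, 2, 0])) (WT.node 61 (WT.leaf [3, 3, 1, 2, 1, 2, 2, 1, 2,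 1, 2, 1, 3, 1, 3, 0, 2, 2, 0, 3, 0, 3, 0, 3, 3, 0, 2, 0, 3, 3, 1, 3, 3, 1, 2, 2, 1]) (WT.node 62 (WT.leaf [3, 0, 2, 2, 0, 3, 0, 3, 0, 3, 3, 0, 2, 0, 3, 3, 1, 3, 3, 1, 2, 2, 1, 3, 3, 1, 2, 1, 2, 2, 1, 2, 1, 2, 1, 3, 1]) (WT.leaf [3, 0, 2, 0, 3, 3, 0, 2, 0, 3, 0, 2, 0, 2, 0, 3, 3, 0, 3, 0, 3, 0, 3, 0, 3, 0, 2, 2, 0, 2, 0, 3, 0, 2, 0, 2, 0])))) (WT.node 65 (WT.node 64 (WT.leaf [3, 3, 0, 2, 0, 3, 0, 3, 0, 3, 3, 0, 3, 0, 3, 0, 2, 0, 2, 0, 3, 0, 3, 3, 0, 3, 0, 2, 2, 0, 2, 0, 3, 3, 0, 3, 0]) (WT.leaf [3, 0, 3, 3, 0, 3, 0, 3, 0, 3, 3, 0, 3, 3, 0, 2, 0, 3, 3, 0, 3, 3, 0, 3, 0, 2, 0, 3, 3, 0, 3, 0, 3, 0, 2, 2, 0, 3])) (WT.node 66 (WT.leaf [3, 0, 3, 0, 3, 3, 0, 2, 0, 3, 3, 1, 3, 3, 1, 2, 2, 1, 3, 3, 1, 2, 1, 2,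 2, 1, 2, 1, 2, 1, 3, 1, 3, 0, 2, 2, 0]) (WT.node 67 (WT.leaf [3, 0, 3, 0, 2, 0, 3, 3, 0, 3, 0, 3, 3, 0, 2, 0, 2, 2, 0, 3, 0, 3, 3, 0, 3, 0, 2, 0, 2, 0, 3, 0, 3, 0, 3, 3, 0]) (WT.leaf [3, 3, 0, 2, 0, 3, 0, 2, 0, 2, 0, 3, 3, 0, 3, 0, 3, 0, 3, 0, 3, 0, 2, 2, 0, 2, 0, 3, 0, 2, 0, 2, 0, 3, 0, 2, 0]))))) (WT.node 73 (WT.node 70 (WT.node 69 (WT.leaf [3, 1, 3, 3, 1, 2, 2, 1, 3, 3, 1, 2, 1, 2, 2, 1, 2, 1, 2, 1, 3, 1, 3, 0, 2, 2, 0, 3, 0, 3, 0, 3, 3, 0, 2, 0, 3]) (WT.leaf [3, 1, 2, 2, 1, 3, 3, 1, 2, 1, 2, 2, 1, 2, 1, 2, 1, 3, 1, 3, 0, 2, 2, 0, 3, 0, 3, 0, 3, 3, 0, 2, 0, 3, 3, 1, 3])) (WT.node 71 (WT.leaf [3, 0, 2, 0, 2, 0, 3, 0, 3, 0, 3, 3, 0, 3, 0, 3, 0, 2, 0, 3, 3, 0, 3, 0, 3, 3, 0, 2, 0, 2, 2, 0, 3, 0, 3, 3,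 0]) (WT.node 72 (WT.leaf [3, 3, 0, 3, 0, 3, 0, 3, 3, 0, 3, 3, 0, 2, 0, 3, 3, 0, 3, 3, 0, 3, 0, 2, 0, 3, 3, 0, 3, 0, 3, 0, 2, 2, 0, 3, 3, 0]) (WT.leaf [3, 1, 2, 1, 2, 2, 1, 2, 1, 2, 1, 3, 1, 3, 0, 2, 2, 0, 3, 0, 3, 0, 3, 3, 0, 2, 0, 3, 3, 1, 3, 3, 1, 2, 2, 1, 3])))) (WT.node 75 (WT.node 74 (WT.leaf [3, 3, 1, 3, 3, 1, 2, 2, 1, 3, 3, 1, 2, 1, 2, 2, 1, 2, 1, 2, 1, 3, 1, 3, 0, 2, 2, 0, 3, 0, 3, 0, 3, 3, 0, 2, 0]) (WT.leaf [3, 0, 2, 0, 2, 0, 3, 0, 2, 0, 3, 3, 0, 2, 0, 3, 0, 2, 0, 2, 0, 3, 3, 0, 3, 0, 3, 0, 3, 0, 3, 0, 2, 2, 0, 2, 0])) (WT.node 76 (WT.leaf [3, 0, 2, 0, 3, 0, 3, 0, 3, 3, 0, 3, 0, 3, 0, 2, 0, 2, 0, 3, 0, 3, 3, 0, 3, 0, 2, 2, 0, 2, 0, 3, 3, 0, 3, 0, 3]) (WT.node 77 (WT.leaf [4, 4, 4, 4, 4, 4,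 4]) (WT.leaf [5, 0, 2]))))))))

/-- The sources of the rotated relators: relator and rotation. -/
def rotSrc : List (ℕ × ℕ) := [(3, 1), (1, 1), (2, 36), (9, 18), (9, 12), (5, 34), (7, 34), (7, 8), (8, 9), (7, 4), (7, 36), (7, 21), (7, 13), (6, 23), (5, 2), (6, 36), (5, 24), (6, 34), (6, 14), (2, 31), (7, 25), (5, 11), (5, 18), (5, 29), (2, 29), (2, 16), (2, 20), (2, 8), (2, 2), (2, 11), (2, 13), (2, 5), (1, 2), (4, 1), (8, 26), (2, 17), (2, 35), (2, 26), (2, 6), (2, 19), (5, 21), (2, 7), (6, 8), (2, 14), (2, 12), (5, 35), (6, 5), (9, 0), (8, 0), (9, 13), (2, 33), (2, 30), (2, 3), (5, 1), (6, 1), (8, 29), (5, 14), (5, 15), (5, 27), (5, 0), (2, 9), (2, 23), (7, 22), (5, 5), (8, 1), (2, 28), (6, 31), (7,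 26), (2, 1), (2, 4), (6, 18), (8, 3), (2, 10), (2, 0), (7, 16), (5, 6), (0, 1), (1, 0)]

/-- The relators, as words of columns. -/
def relWords : List (List ℕ) := [[4, 4, 4, 4, 4, 4, 4], [5, 0, 2], [3, 3, 1, 3, 3, 1, 2, 2, 1, 3, 3, 1, 2, 1, 2, 2, 1, 2, 1, 2, 1, 3, 1, 3, 0, 2, 2, 0, 3, 0, 3, 0, 3, 3, 0, 2, 0], [0, 0], [2, 2, 2, 2, 2], [3, 3, 0, 3, 0, 3, 3, 0, 2, 0, 3, 0, 3, 0, 3, 3, 0, 3, 0, 3, 0, 2, 0, 2, 0, 3, 0, 3, 3, 0, 3, 0, 2, 2, 0, 2, 0], [3, 3, 0, 3, 0, 3, 3, 0, 2, 0, 2, 2, 0, 3, 0, 3, 3, 0, 3, 0, 2, 0, 2, 0, 3, 0, 3, 0, 3, 3, 0, 3, 0, 3, 0, 2, 0], [3, 3, 0, 3, 0, 3, 0, 3, 0, 3, 0, 2, 2, 0, 2, 0, 3, 0, 2, 0, 2, 0, 3, 0, 2, 0, 3, 3, 0, 2, 0, 3, 0, 2, 0, 2, 0], [3, 3, 0, 3, 3, 0, 3, 0, 3, 0, 3,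 3, 0, 3, 3, 0, 2, 0, 3, 3, 0, 3, 3, 0, 3, 0, 2, 0, 3, 3, 0, 3, 0, 3, 0, 2, 2, 0], [3, 3, 0, 3, 3, 0, 3, 0, 3, 0, 3, 3, 0, 3, 3, 0, 2, 2, 0, 3, 0, 3, 0, 3, 3, 0, 2, 0, 3, 0, 3, 3, 0, 3, 3, 0, 2, 0]]

/-- The words checked on the permutation model. -/
def mwords : List (List ℕ) := [[4, 4, 4, 4, 4, 4, 4], [5, 0, 2], [3, 3, 1, 3, 3, 1, 2, 2, 1, 3, 3, 1, 2, 1, 2, 2, 1, 2, 1, 2, 1, 3, 1, 3, 0, 2, 2, 0, 3, 0, 3, 0, 3, 3, 0, 2, 0], [0, 0], [2, 2, 2, 2, 2], [3, 3, 0, 3, 0, 3, 3, 0, 2, 0, 3, 0, 3, 0, 3, 3, 0, 3, 0, 3, 0, 2, 0, 2, 0, 3, 0, 3, 3, 0, 3, 0, 2, 2, 0, 2, 0], [3, 3, 0, 3, 0, 3, 3, 0, 2, 0, 2, 2, 0, 3, 0, 3, 3, 0, 3, 0, 2, 0, 2, 0, 3, 0, 3, 0, 3, 3, 0, 3, 0, 3, 0, 2, 0], [3, 3, 0, 3, 0, 3, 0, 3, 0, 3,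 0, 2, 2, 0, 2, 0, 3, 0, 2, 0, 2, 0, 3, 0, 2, 0, 3, 3, 0, 2, 0, 3, 0, 2, 0, 2, 0], [3, 3, 0, 3, 3, 0, 3, 0, 3, 0, 3, 3, 0, 3, 3, 0, 2, 0, 3, 3, 0, 3, 3, 0, 3, 0, 2, 0, 3, 3, 0, 3, 0, 3, 0, 2, 2, 0], [3, 3, 0, 3, 3, 0, 3, 0, 3, 0, 3, 3, 0, 3, 3, 0, 2, 2, 0, 3, 0, 3, 0, 3, 3, 0, 2, 0, 3, 0, 3, 3, 0, 3, 3, 0, 2, 0]]

/-- The table. -/
noncomputable def tab : Tab where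
  k := 6
  inv := fun c => (bif Nat.beq c 0 then 1 else (bif Nat.beq c 1 then 0 else (bif Nat.beq c 2 then 3 else (bif Nat.beq c 3 then 2 else (bif Nat.beq c 4 then 5 else (bif Nat.beq c 5 then 4 else c))))))
  N := 280
  n := 280
  Tmax := 1681
  wn := 9
  mn := 0x1ff
  subs := [[2, 0, 2, 2, 0, 2, 2, 0, 2], [3, 0, 3, 3, 0, 3, 3, 0, 3], [3, 0, 2, 0, 2, 0, 3, 3, 0, 2], [3, 0, 2, 2, 0, 3, 0, 3, 0, 2], [0, 3, 0, 2, 0, 3, 3, 0, 2, 0, 2], [0, 3, 3, 0, 2, 0, 3, 0, 2, 2, 0], [2, 0, 3, 3, 0, 2, 0, 2, 0, 2, 2], [3, 0, 3, 0, 2, 2, 0, 3, 0, 2, 0], [3, 3, 0, 3, 0, 3, 0, 2, 2, 0, 3], [0, 2, 0, 3, 0, 2, 2, 0, 3, 0, 3, 3], [0, 2, 2, 0, 3, 3, 0, 2, 0, 3, 0, 2], [2, 0, 2, 2, 0, 3, 0, 3, 0, 3, 0, 2], [2, 2, 0, 2, 0, 3,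 3, 0, 2, 0, 3, 0], [3, 0, 2, 0, 2, 0, 2, 0, 3, 3, 0, 3], [3, 0, 2, 0, 3, 0, 2, 2, 0, 3, 3, 0], [2, 2, 0, 3, 3, 0, 2, 0, 2, 2, 0, 2, 2], [3, 0, 2, 0, 3, 3, 0, 2, 2, 0, 3, 0, 2], [3, 0, 3, 3, 0, 2, 0, 2, 0, 2, 0, 2, 2], [3, 3, 0, 3, 0, 3, 0, 3, 0, 2, 2, 0, 2], [3, 3, 0, 3, 3, 0, 3, 0, 2, 2, 0, 3, 3], [0, 2, 0, 2, 0, 3, 0, 3, 0, 3, 3, 0, 3, 3], [0, 2, 2, 0, 3, 3, 0, 2, 2, 0, 3, 3, 0, 2], [0, 3, 0, 2, 0, 2, 0, 2, 0, 3, 0, 3, 0, 3], [0, 3, 0, 2, 0, 3, 3, 0, 3, 0, 3, 3, 0, 3]]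
  rot := fun i => rotT.getF i
  ent := fun c i => bget2 entT_0 1 9 20 0xfffff 511 c i
  cer := fun c i => bget2 cerT_0 1 10 15 0x7fff 1023 c i
  tau := fun c i => bget2 tauT_0 1 10 9 0x1ff 1023 c i
  lk := fun i => bget lkT_0 14 1 0x1 16383 i
  lc := fun i => bget lcT_0 14 1 0x1 16383 i
  pn := fun i => bget pnT_0 10 12 0xfff 1023 i
  cls := fun i => bget clsT_0 10 9 0x1ff 1023 i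
  rep := fun i => bget repT_0 10 9 0x1ff 1023 i

/-- The straight line program of the further columns. -/
def slp : List (ℕ × List ℕ) := [(0, [3, 2]), (0, [0, 6]), (0, [1, 4]), (0, [7, 8]), (0, [0, 1]), (0, [9, 10]), (0, [8, 10]), (0, [11, 12]), (0, [3, 0]), (0, [13, 14]), (0, [0, 10]), (0, [15, 16]), (0, [3, 3]), (0, [17, 18]), (0, [5, 16]), (0, [19, 20]), (0, [16, 2]), (0, [21, 22]), (0, [18, 14]), (0, [23, 24]), (0, [16, 22]), (0, [25, 26]), (0, [10, 22]), (0, [27, 28]), (0, [28, 18]), (0, [29, 30]), (0, [24, 26]), (0, [31, 32]), (0, [22, 12]), (0, [33, 34]), (0, [12, 4]), (0, [35, 36]), (0, [24, 34]), (0, [37, 38]), (0, [30, 36]), (0, [39, 40]), (0, [28, 38]), (0, [41, 42]), (0, [32, 42]), (0, [43,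 44]), (0, [24, 6]), (0, [45, 46]), (0, [20, 12]), (0, [47, 48]), (0, [12, 38]), (0, [49, 50]), (0, [50, 46]), (0, [51, 52]), (0, [44, 42]), (0, [53, 54]), (0, [46, 3]), (0, [55, 56]), (0, [6, 52]), (0, [57, 58]), (0, [40, 54]), (0, [59, 60]), (0, [52, 40]), (0, [61, 62]), (0, [48, 56]), (0, [63, 64]), (0, [62, 36]), (0, [65, 66]), (0, [46, 60]), (0, [67, 68]), (0, [58, 62]), (0, [69, 70]), (0, [70, 40]), (0, [71, 72]), (0, [42, 68]), (0, [73, 74]), (0, [56, 72]), (0, [75, 76]), (0, [72, 46]), (0, [77, 78]), (0, [64, 46]), (0, [79, 80]), (0, [76, 78]), (0, [81, 82]), (0, [42, 80]), (0, [83, 84]), (0, [58, 40]), (0, [85, 86]), (0, [12, 58]), (0, [87, 88]), (0, [74, 66]), (0, [89, 90]), (0, [12, 74]), (0,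 [91, 92]), (0, [90, 86]), (0, [93, 94]), (0, [76, 88]), (0, [95, 96]), (0, [92, 88]), (0, [97, 98]), (0, [88, 82]), (0, [99, 100]), (0, [42, 94]), (0, [101, 102]), (0, [42, 98]), (0, [103, 104]), (0, [46, 84]), (0, [105, 106]), (0, [86, 102]), (0, [107, 108]), (0, [108, 100]), (0, [109, 110]), (0, [106, 74]), (0, [111, 112]), (0, [112, 88]), (0, [113, 114]), (0, [104, 88]), (0, [115, 116]), (0, [110, 114]), (0, [117, 118]), (0, [110, 104]), (0, [119, 120]), (0, [118, 74]), (0, [121, 122]), (0, [84, 118]), (0, [123, 124]), (0, [116, 102]), (0, [125, 126]), (0, [4, 1, 127]), (0, [122, 126]), (0, [127, 129]), (0, [4, 128, 1, 3, 130]), (1, [131]), (0, [126, 98]), (0, [130, 133]), (0, [126, 116]), (0, [134,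 135]), (0, [4, 132, 4, 136]), (1, [137]), (1, [128]), (0, [135, 116]), (0, [136, 140]), (0, [139, 139, 138, 1, 3, 131, 2, 141]), (1, [142]), (0, [96, 129]), (0, [141, 144]), (0, [128, 131, 1, 3, 131, 145]), (1, [146])]

/-- The levels: base point, generating columns, size of the orbit. -/
def levs : List (ℕ × List ℕ × ℕ) := [(0, [0, 2, 3, 4, 5, 137, 138, 142, 143, 146, 147, 128, 139], 280), (1, [137, 138, 142, 143, 128, 139], 36), (2, [137, 138, 142, 143, 146, 147], 108), (3, [137, 138], 3)]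

/-- A record of the trees of the orbits. -/
noncomputable def lidx : ℕ → ℕ → ℕ := fun c i => bget2 lidxT_0 1 10 9 0x1ff 1023 c i

/-- A record of the trees of the orbits. -/
noncomputable def lpar : ℕ → ℕ → ℕ := fun c i => bget2 lparT_0 1 10 9 0x1ff 1023 c i

/-- A record of the trees of the orbits. -/
noncomputable def lgi : ℕ → ℕ → ℕ := fun c i => bget2 lgiT_0 1 12 4 0xf 4095 c i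

/-- The word of the element of prime power order. -/
def xw : List ℕ := [4]


/-- The orbit certificate. -/
noncomputable def orb : OrbData where
  lab := fun i => bget labT_0 13 2 0x3 8191 i
  dep := fun i => bget depT_0 13 2 0x3 8191 i
  oj := fun i => bget ojT_0 11 5 0x1f 2047 i
  root := fun i => bget rootT_0 13 2 0x3 8191 i

end Cfsg.Agent.Helper9.TCData.U43B0
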